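import Groth.Agent.HLVT.Connect
import Groth.Agent.SpQS.DimDecent
import Groth.Prelude.Def_FEt
import Groth.Prelude.Def_LefX

/-!
# Dimension and connectedness of the punctured spectrum against those of the spectrum
-/

set_option autoImplicit false
set_option backward.isDefEq.respectTransparency false

universe u

open CategoryTheory AlgebraicGeometry TopologicalSpace Topology

namespace Groth.Agent.PunctDim

theorem topDim_eq_krullDim (T : Type*) [TopologicalSpace T] [T0Space T] [QuasiSober T] :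
    topologicalKrullDim T = @Order.krullDim T (specializationOrder T).toPreorder := by
  letI := specializationOrder T
  exact Order.krullDim_eq_of_orderIso irreducibleSetEquivPoints

theorem isEmpty_irreducibleCloseds (T : Type*) [TopologicalSpace T] [IsEmpty T] :
    IsEmpty (IrreducibleCloseds T) :=
  ⟨fun s => s.isIrreducible'.nonempty.elim fun x _ => isEmptyElim x⟩

theorem le_of_succ_le_succ {n : ℕ} {x : WithBot ℕ∞} (h : (n : WithBot ℕ∞) + 1 ≤ x + 1) :
    (n : WithBot ℕ∞) ≤ x := by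
  induction x with
  | bot => simp at h
  | coe y =>
    have h' : ((n : ℕ∞) + 1) ≤ y + 1 := by exact_mod_cast h
    have := (ENat.add_le_add_iff_right ENat.one_ne_top).1 h'
    exact_mod_cast this

theorem krullDim_point_removed {T : Type*} [TopologicalSpace T] [T0Space T] [QuasiSober T] {c : T}
    (hc : IsClosed ({c} : Set T)) (hall : ∀ x, x ⤳ c) (hne : ∃ x, x ≠ c) :
    topologicalKrullDim T = topologicalKrullDim ↥({c}ᶜ : Set T) + 1 := by
  classical
  haveI : QuasiSober ↥({c}ᶜ : Set T) := hc.isOpen_compl.isOpenEmbedding_subtypeVal.quasiSober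
  haveI : Nonempty ↥({c}ᶜ : Set T) := let ⟨x, hx⟩ := hne; ⟨⟨x, hx⟩⟩
  rw [topDim_eq_krullDim T, topDim_eq_krullDim ↥({c}ᶜ : Set T)]
  letI := specializationOrder T
  rw [show @Order.krullDim ↥({c}ᶜ : Set T) (specializationOrder ↥({c}ᶜ : Set T)).toPreorder =
      Order.krullDim ↥({c}ᶜ : Set T) from @Order.krullDim_eq_of_orderIso _ _ (specializationOrder ↥({c}ᶜ : Set T)).toPreorder _
        ⟨Equiv.refl _, fun {v w} => (subtype_specializes_iff w v).symm⟩, ← Order.krullDim_withBot]
  let e : WithBot ↥({c}ᶜ : Set T) ≃ T :=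
    { toFun := fun w => match w with
        | ⊥ => c
        | (x : ↥({c}ᶜ : Set T)) => x.1
      invFun := fun x => if h : x = c then ⊥ else ((⟨x, h⟩ : ↥({c}ᶜ : Set T)) : WithBot _)
      left_inv := fun w => by
        induction w with
        | bot => simp
        | coe x => simp [show x.1 ≠ c from x.2]
      right_inv := fun x => by
        by_cases h : x = c <;> simp [h] }
  have hle : ∀ {a b : T}, a ≤ b ↔ b ⤳ a := Iff.rfl
  refine (Order.krullDim_eq_of_orderIso ⟨e, fun {v w} => ?_⟩).symm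
  induction v with
  | bot => exact iff_of_true (hle.2 (hall _)) bot_le
  | coe a =>
    induction w with
    | bot =>
      refine iff_of_false (fun h => a.2 ?_) (WithBot.not_coe_le_bot _)
      exact ((hle.1 h).antisymm (hall a.1)).eq.symm
    | coe b => rw [WithBot.coe_le_coe]; exact Iff.rfl

variable {R : Type u} [CommRing R] [IsLocalRing R]

variable (R) in
/-- The punctured spectrum as a set. -/
abbrev punct : Set (PrimeSpectrum R) := {IsLocalRing.closedPoint R}ᶜ

theorem mem_of_isClosed {Z : Set (PrimeSpectrum R)} (hZ : IsClosed Z) (hne : Z.Nonempty) :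
    IsLocalRing.closedPoint R ∈ Z := by
  obtain ⟨x, hx⟩ := hne
  exact (IsLocalRing.specializes_closedPoint x).mem_closed hZ hx

/-- A closed set of the spectrum has dimension one more than its punctured part. -/
theorem dim_eq_succ {Z : Set (PrimeSpectrum R)} (hZ : IsClosed Z)
    (hne : ((Subtype.val : punct R → PrimeSpectrum R) ⁻¹' Z).Nonempty) :
    topologicalKrullDim ↥Z = topologicalKrullDim ↥((Subtype.val : punct R → PrimeSpectrum R) ⁻¹' Z) + 1 := by
  obtain ⟨⟨x, hxc⟩, hx⟩ := hne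
  let c : ↥Z := ⟨IsLocalRing.closedPoint R, mem_of_isClosed hZ ⟨x, hx⟩⟩
  haveI : QuasiSober ↥Z := hZ.isClosedEmbedding_subtypeVal.quasiSober
  have hc : IsClosed ({c} : Set ↥Z) := by
    have : ({c} : Set ↥Z) = Subtype.val ⁻¹' {IsLocalRing.closedPoint R} := by
      ext z; simp [c, Subtype.ext_iff]
    rw [this]
    exact (IsLocalRing.isClosed_singleton_closedPoint (R := R)).preimage continuous_subtype_val
  rw [krullDim_point_removed hc (fun z => (subtype_specializes_iff z c).2 (IsLocalRing.specializes_closedPoint _))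
    ⟨⟨x, hx⟩, fun h => hxc (congrArg Subtype.val h)⟩]
  congr 1
  let φ : ↥((Subtype.val : punct R → PrimeSpectrum R) ⁻¹' Z) ≃ₜ ↥({c}ᶜ : Set ↥Z) :=
    { toFun := fun w => ⟨⟨w.1.1, w.2⟩, fun h => w.1.2 (congrArg Subtype.val h)⟩
      invFun := fun w => ⟨⟨w.1.1, fun h => w.2 (Subtype.ext h)⟩, w.1.2⟩
      left_inv := fun _ => rfl
      right_inv := fun _ => rfl
      continuous_toFun := by fun_prop
      continuous_invFun := by fun_prop }
  exact (φ.isHomeomorph.topologicalKrullDim_eq _).symm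

theorem succ_le_dim {n : ℕ} {Z : Set (PrimeSpectrum R)} (hZ : IsClosed Z)
    (h : (n : WithBot ℕ∞) ≤ topologicalKrullDim ↥((Subtype.val : punct R → PrimeSpectrum R) ⁻¹' Z)) :
    ((n + 1 : ℕ) : WithBot ℕ∞) ≤ topologicalKrullDim ↥Z := by
  by_cases hne : ((Subtype.val : punct R → PrimeSpectrum R) ⁻¹' Z).Nonempty
  · rw [dim_eq_succ hZ hne, Nat.cast_add, Nat.cast_one]
    exact add_le_add h le_rfl
  · haveI : IsEmpty ↥((Subtype.val : punct R → PrimeSpectrum R) ⁻¹' Z) :=
      Set.isEmpty_coe_sort.2 (Set.not_nonempty_iff_eq_empty.1 hne)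
    haveI := isEmpty_irreducibleCloseds ↥((Subtype.val : punct R → PrimeSpectrum R) ⁻¹' Z)
    rw [topologicalKrullDim, Order.krullDim_eq_bot] at h
    exact absurd h (by simp)

theorem punct_dim_ge {n : ℕ} {Z : Set (PrimeSpectrum R)} (hZ : IsClosed Z)
    (h : ((n + 1 : ℕ) : WithBot ℕ∞) ≤ topologicalKrullDim ↥Z) :
    (n : WithBot ℕ∞) ≤ topologicalKrullDim ↥((Subtype.val : punct R → PrimeSpectrum R) ⁻¹' Z) := by
  by_cases hne : ((Subtype.val : punct R → PrimeSpectrum R) ⁻¹' Z).Nonempty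
  · rw [dim_eq_succ hZ hne, Nat.cast_add, Nat.cast_one] at h
    exact le_of_succ_le_succ h
  · exfalso
    haveI : Subsingleton ↥Z := ⟨fun a b => Subtype.ext <| by
      have key : ∀ z : ↥Z, z.1 = IsLocalRing.closedPoint R := fun z => by
        by_contra hz
        exact hne ⟨⟨z.1, hz⟩, z.2⟩
      rw [key a, key b]⟩
    haveI : DiscreteTopology ↥Z := Subsingleton.discreteTopology
    have h0 := h.trans (topologicalKrullDim_zero_of_discreteTopology ↥Z)
    norm_cast at h0

/-- Components of the punctured spectrum give those of the spectrum. -/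
theorem preimage_mem_irreducibleComponents {C : Set (PrimeSpectrum R)}
    (hC : C ∈ irreducibleComponents (PrimeSpectrum R))
    (hne : ((Subtype.val : punct R → PrimeSpectrum R) ⁻¹' C).Nonempty) :
    (Subtype.val : punct R → PrimeSpectrum R) ⁻¹' C ∈ irreducibleComponents ↥(punct R) := by
  have hU : IsOpen (punct R) := (IsLocalRing.isClosed_singleton_closedPoint (R := R)).isOpen_compl
  have hirr : IsIrreducible ((Subtype.val : punct R → PrimeSpectrum R) ⁻¹' C) := by
    refine ⟨hne, fun u v hu hv hu' hv' => ?_⟩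
    obtain ⟨⟨a, ha⟩, haC, hau⟩ := hu'
    obtain ⟨⟨b, hb⟩, hbC, hbv⟩ := hv'
    obtain ⟨z, hzC, hzu, hzv⟩ := hC.1.2 _ _ (hU.isOpenMap_subtype_val u hu) (hU.isOpenMap_subtype_val v hv)
      ⟨a, haC, ⟨a, ha⟩, hau, rfl⟩ ⟨b, hbC, ⟨b, hb⟩, hbv, rfl⟩
    obtain ⟨⟨z', hz'⟩, hz'u, rfl⟩ := hzu
    obtain ⟨⟨w, hw⟩, hwv, hwz⟩ := hzv
    cases hwz
    exact ⟨⟨z', hz'⟩, hzC, hz'u, hwv⟩
  refine ⟨hirr, fun W hW hle => ?_⟩
  have h1 : IsIrreducible (closure ((Subtype.val : punct R → PrimeSpectrum R) '' W)) :=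
    (hW.image _ continuous_subtype_val.continuousOn).closure
  have h2 : C ⊆ closure ((Subtype.val : punct R → PrimeSpectrum R) '' W) := by
    intro x hx
    obtain ⟨⟨y, hy⟩, hyC⟩ := hne
    have hd : x ∈ closure (C ∩ punct R) :=
      (subset_closure_inter_of_isPreirreducible_of_isOpen hC.1.2 hU ⟨y, hyC, hy⟩) hx
    refine closure_mono ?_ hd
    rintro z ⟨hzC, hz⟩
    exact ⟨⟨z, hz⟩, hle hzC, rfl⟩
  exact fun w hw => hC.2 h1 h2 (subset_closure ⟨w, hw, rfl⟩)

/-- Every component of a spectrum with nonempty punctured part meets it. -/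
theorem nonempty_preimage_component (hne : Nonempty ↥(punct R)) {C : Set (PrimeSpectrum R)}
    (hC : C ∈ irreducibleComponents (PrimeSpectrum R)) :
    ((Subtype.val : punct R → PrimeSpectrum R) ⁻¹' C).Nonempty := by
  by_contra hempty
  obtain ⟨x⟩ := hne
  have hsub : C ⊆ closure {x.1} := fun z hz => by
    have : z = IsLocalRing.closedPoint R := by
      by_contra hzc
      exact hempty ⟨⟨z, hzc⟩, hz⟩
    rw [this]
    exact mem_of_isClosed isClosed_closure ⟨x.1, subset_closure rfl⟩
  exact hempty ⟨x, hC.2 isIrreducible_singleton.closure hsub (subset_closure rfl)⟩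

/-- The components of the punctured spectrum extend. -/
theorem exists_component_of_punct {Z : Set ↥(punct R)} (hZ : Z ∈ irreducibleComponents ↥(punct R)) :
    ∃ C ∈ irreducibleComponents (PrimeSpectrum R), (Subtype.val : punct R → PrimeSpectrum R) ⁻¹' C = Z := by
  obtain ⟨C, hC, hle⟩ := exists_mem_irreducibleComponents_subset_of_isIrreducible _
    (hZ.1.image (Subtype.val : punct R → PrimeSpectrum R) continuous_subtype_val.continuousOn)
  have hne : ((Subtype.val : punct R → PrimeSpectrum R) ⁻¹' C).Nonempty :=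
    hZ.1.nonempty.mono fun z hz => hle ⟨z, hz, rfl⟩
  have h1 := preimage_mem_irreducibleComponents hC hne
  exact ⟨C, hC, le_antisymm (hZ.2 h1.1 fun z hz => hle ⟨z, hz, rfl⟩) fun z hz => hle ⟨z, hz, rfl⟩⟩

theorem le_subdim {k : ℕ} (hne : Nonempty ↥(punct R))
    (ha : ∀ Z ∈ irreducibleComponents ↥(punct R), (k : WithBot ℕ∞) ≤ topologicalKrullDim ↥Z) :
    ((k + 1 : ℕ) : WithBot ℕ∞) ≤ LocCoh.subdim (PrimeSpectrum R) :=
  le_iInf₂ fun C hC => succ_le_dim (isClosed_of_mem_irreducibleComponents C hC)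
    (ha _ (preimage_mem_irreducibleComponents hC (nonempty_preimage_component hne hC)))

theorem nonempty_of_connectedInDim {k : ℕ} (hb : LefX.ConnectedInDim ↥(punct R) k) : Nonempty ↥(punct R) := by
  obtain ⟨x, -⟩ := (hb ∅ isClosed_empty (by
    haveI : IsEmpty ↥(∅ : Set ↥(punct R)) := Set.isEmpty_coe_sort.2 rfl
    haveI := isEmpty_irreducibleCloseds ↥(∅ : Set ↥(punct R))
    rw [topologicalKrullDim, Order.krullDim_eq_bot]
    exact WithBot.bot_lt_coe _)).nonempty
  exact ⟨x⟩

theorem le_connDim {k : ℕ} (hb : LefX.ConnectedInDim ↥(punct R) k) :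
    ((k + 1 : ℕ) : WithBot ℕ∞) ≤ LocCoh.connDim (PrimeSpectrum R) := by
  refine le_iInf₂ fun Z ⟨hZ, hZc⟩ => ?_
  by_contra hlt
  have hm : IsLocalRing.closedPoint R ∈ Z := by
    refine mem_of_isClosed hZ (Set.nonempty_iff_ne_empty.2 fun he => hZc ?_)
    rw [he, Set.compl_empty]
    exact ⟨⟨IsLocalRing.closedPoint R, trivial⟩, by
      refine isPreconnected_of_forall_pair fun x _ y _ => ⟨Set.univ, subset_rfl, trivial, trivial, ?_⟩
      haveI : PreconnectedSpace (PrimeSpectrum R) := by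
        refine ⟨?_⟩
        refine isPreconnected_of_forall (IsLocalRing.closedPoint R) fun z _ => ⟨closure {z}, Set.subset_univ _,
          mem_of_isClosed isClosed_closure ⟨z, subset_closure rfl⟩, subset_closure rfl,
          isPreconnected_singleton.closure⟩
      exact isPreconnected_univ⟩
  set W := (Subtype.val : punct R → PrimeSpectrum R) ⁻¹' Z with hW
  have hd : topologicalKrullDim ↥W < (k : WithBot ℕ∞) := by
    by_contra h
    exact hlt (succ_le_dim hZ (not_lt.1 h))
  apply hZc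
  have himg : Zᶜ = (Subtype.val : punct R → PrimeSpectrum R) '' Wᶜ := by
    ext z
    exact ⟨fun hz => ⟨⟨z, fun h => hz (h ▸ hm)⟩, hz, rfl⟩, fun ⟨w, hw, e⟩ => e ▸ hw⟩
  rw [himg]
  exact (hb W (hZ.preimage continuous_subtype_val) hd).image _ continuous_subtype_val.continuousOn

theorem connectedInDim_of_le {k : ℕ}
    (h : ((k + 1 : ℕ) : WithBot ℕ∞) ≤ LocCoh.connDim (PrimeSpectrum R)) :
    LefX.ConnectedInDim ↥(punct R) k := by
  intro W hW hd
  by_contra hc
  obtain ⟨Z₀, hZ₀, rfl⟩ := isClosed_induced_iff.1 hW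
  set Z := Z₀ ∪ {IsLocalRing.closedPoint R} with hZdef
  have hZ : IsClosed Z := hZ₀.union (IsLocalRing.isClosed_singleton_closedPoint (R := R))
  have hpre : (Subtype.val : punct R → PrimeSpectrum R) ⁻¹' Z = Subtype.val ⁻¹' Z₀ := by
    ext z
    simp only [Set.mem_preimage, hZdef, Set.mem_union, Set.mem_singleton_iff]
    exact ⟨fun hz => hz.resolve_right z.2, Or.inl⟩
  have hZc : ¬ IsConnected Zᶜ := fun hcon => hc (by
    have himg : Zᶜ = (Subtype.val : punct R → PrimeSpectrum R) '' (Subtype.val ⁻¹' Z₀)ᶜ := by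
      ext z
      simp only [hZdef, Set.mem_compl_iff, Set.mem_union, Set.mem_singleton_iff, Set.mem_image, not_or]
      exact ⟨fun hz => ⟨⟨z, hz.2⟩, hz.1, rfl⟩, fun ⟨w, hw, e⟩ => e ▸ ⟨hw, w.2⟩⟩
    rw [himg] at hcon
    exact ⟨hcon.nonempty.of_image, Topology.IsInducing.subtypeVal.isPreconnected_image.1 hcon.isPreconnected⟩)
  have h1 := h.trans (iInf₂_le Z ⟨hZ, hZc⟩)
  have h2 := punct_dim_ge hZ h1
  rw [hpre] at h2
  exact absurd (lt_of_le_of_lt h2 hd) (lt_irrefl _)

end Groth.Agent.PunctDim
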